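import Groth.Agent.H16Derived.DerCohAdic.Koszul

/-!
# When the reflection is bijective on maps
-/

set_option autoImplicit false
set_option linter.style.haveILetI false
set_option linter.unusedSectionVars false
set_option backward.isDefEq.respectTransparency false

universe w v u r

open CategoryTheory CategoryTheory.Limits CategoryTheory.Pretriangulated

namespace Groth.Agent.H16Derived.DerCompFF

open DerCompLib DerCompLib.Null DerCohAdic

variable {R : Type r} [CommRing R] {A : Type u} [Category.{v} A] [Abelian A] [Linear R A]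
  [HasDerivedCategory.{w} A]

/-- Maps out of Koszul complexes vanish when maps out of the complex do. -/
theorem subsingleton_kX_hom_all (X : CochainComplex A ℤ) (L : DerivedCategory A)
    (hL : ∀ q : ℤ, Subsingleton (DerivedCategory.Q.obj X ⟶ L⟦q⟧)) :
    ∀ (l : List R) (q : ℤ), Subsingleton (DerivedCategory.Q.obj (kX R l X) ⟶ L⟦q⟧)
  | [], q => hL q
  | f :: l, q => by
    obtain ⟨i, d, hT⟩ := exists_triangle f l X
    refine subsingleton_of_forall_eq 0 fun x => ?_
    haveI := subsingleton_kX_hom_all X L hL l q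
    obtain ⟨z, hz⟩ := Triangle.yoneda_exact₃ _ hT x (Subsingleton.elim
      (α := DerivedCategory.Q.obj (kX R l X) ⟶ L⟦q⟧) _ _)
    haveI := subsingleton_shift₁ (q := q) (by omega) (subsingleton_kX_hom_all X L hL l (q - 1))
    rw [hz, Subsingleton.elim (α := (DerivedCategory.Q.obj (kX R l X))⟦(1 : ℤ)⟧ ⟶ L⟦q⟧) z 0]
    exact comp_zero

/-- Completeness passes to Koszul complexes. -/
theorem comp_kX (f : R) (X : CochainComplex A ℤ) (L : DerivedCategory A) [HasProduct fun _ : ℕ => L]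
    (h : ∀ q : ℤ, Comp (Preadditive.leftComp (L⟦q⟧) (f • 𝟙 (DerivedCategory.Q.obj X)))) (l : List R) (q : ℤ) :
    Comp (Preadditive.leftComp (L⟦q⟧) (f • 𝟙 (DerivedCategory.Q.obj (kX R l X)))) := by
  obtain ⟨F, a, c, hT⟩ := exists_fibre f L
  refine (comp_smul_iff_of_triangle hT _).2 (fun j => ?_) q
  have h' := (subsingleton_shift_left_iff _ F (-j)).1 (subsingleton_kX_hom_all X F (fun k => ?_) l (-j))
  · rwa [neg_neg] at h'
  · exact (subsingleton_shift_left_iff (DerivedCategory.Q.obj X) F k).2 ((comp_smul_iff_of_triangle hT _).1 h (-k))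

/-- The key sequence argument. -/
theorem eq_zero_of_divisible {H₁ H₂ H₃ H₄ : Type*} [AddCommGroup H₁] [AddCommGroup H₂] [AddCommGroup H₃]
    [AddCommGroup H₄] {a₁ : H₁ →+ H₁} {a₂ : H₂ →+ H₂} {a₃ : H₃ →+ H₃} {a₄ : H₄ →+ H₄} (c₁ : Comp a₁)
    (c₂ : Comp a₂) (c₄ : Comp a₄) (α : H₁ →+ H₂) (β : H₂ →+ H₃) (γ : H₃ →+ H₄)
    (hα : ∀ x, α (a₁ x) = a₂ (α x)) (hβ : ∀ x, β (a₂ x) = a₃ (β x)) (hγ : ∀ x, γ (a₃ x) = a₄ (γ x))
    (e₂ : ∀ y, β y = 0 → ∃ z, α z = y) (e₂' : ∀ z, β (α z) = 0) (e₃ : ∀ x, γ x = 0 → ∃ y, β y = x)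
    (x : ℕ → H₃) (hx : ∀ i, x i = a₃ (x (i + 1))) : x = 0 := by
  have h4 : (fun i => γ (x i)) = 0 := c₄.eq_zero fun i => by
    show γ (x i) = a₄ (γ (x (i + 1)))
    rw [← hγ, ← hx i]
  choose y hy using fun i => e₃ (x i) (congrFun h4 i)
  choose z hz using fun i => e₂ (y i - a₂ (y (i + 1))) (by rw [map_sub, hβ, hy, hy, ← hx, sub_self])
  obtain ⟨w, hw⟩ := c₁.2 z
  have hw' : ∀ i, w i - a₁ (w (i + 1)) = z i := fun i => congrFun hw i
  have h2 : (fun i => y i - α (w i)) = 0 := c₂.eq_zero fun i => by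
    show y i - α (w i) = a₂ (y (i + 1) - α (w (i + 1)))
    have h := hz i
    rw [← hw' i, map_sub, hα] at h
    rw [map_sub, sub_eq_sub_iff_sub_eq_sub]
    exact h.symm
  funext i
  rw [Pi.zero_apply, ← hy i, sub_eq_zero.1 (congrFun h2 i), e₂']

variable {P : ObjectProperty (DerivedCategory A)} (hP : ∀ M, P M → ∀ k : ℤ, P (M⟦k⟧))
  {c : DerivedCategory A ⥤ P.FullSubcategory} (adj : c ⊣ P.ι)

include hP adj in
/-- Composition with the unit is bijective if the maps into the source are complete. -/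
theorem bijective_comp_unit (l : List R)
    (hcomp : ∀ f ∈ l, ∀ M, P M → ∀ (Y : DerivedCategory A) (q : ℤ), Comp (Preadditive.leftComp (M⟦q⟧) (f • 𝟙 Y)))
    (hnil : ∀ B : DerivedCategory A, (∀ f ∈ l, ∃ N : ℕ, f ^ N • 𝟙 B = 0) → P B)
    (X : CochainComplex A ℤ) (L : DerivedCategory A) [HasProduct fun _ : ℕ => L]
    (hL : ∀ f ∈ l, ∀ q : ℤ, Comp (Preadditive.leftComp (L⟦q⟧) (f • 𝟙 (DerivedCategory.Q.obj X)))) :
    Function.Bijective fun ψ : DerivedCategory.Q.obj X ⟶ L => ψ ≫ adj.unit.app L := by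
  obtain ⟨E, i, d, hT, hE⟩ := exists_orth_triangle hP adj L
  let T := (c.obj L).obj
  have hEl : Pl l X E := by
    let Yc := DerivedCategory.Q.objPreimage E
    let eY : DerivedCategory.Q.obj Yc ≅ E := DerivedCategory.Q.objObjPreimageIso E
    refine pl_iso eY (pl_of_isZero_right _ _ _ (isZero_kX_of_subsingleton _ _ fun n => ?_))
    refine subsingleton_of_iso_left eY.symm (hE _ ?_ n)
    exact hnil _ fun f hf => exists_pow_smul_eq_zero l.reverse Yc (List.mem_reverse.2 hf)
  -- descend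
  have hall : ∀ q : ℤ, Subsingleton (DerivedCategory.Q.obj X ⟶ E⟦q⟧) := by
    suffices ∀ l' : List R, (∀ f ∈ l', f ∈ l) →
        (∀ q, Subsingleton (DerivedCategory.Q.obj (kX R l' X) ⟶ E⟦q⟧)) →
          ∀ q, Subsingleton (DerivedCategory.Q.obj X ⟶ E⟦q⟧) from this l (fun _ h => h) hEl
    intro l'
    induction l' with
    | nil => exact fun _ h q => h q
    | cons f l' ih =>
      intro hmem h
      refine ih (fun g hg => hmem g (List.mem_cons_of_mem _ hg)) fun q => ?_
      obtain ⟨i', d', hT'⟩ := exists_triangle f l' X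
      let Y := DerivedCategory.Q.obj (kX R l' X)
      let C := DerivedCategory.Q.obj (kX R (f :: l') X)
      haveI : Subsingleton (C⟦(-1 : ℤ)⟧ ⟶ E⟦q⟧) :=
        ((Functor.FullyFaithful.ofFullyFaithful (shiftFunctor (DerivedCategory A) (1 : ℤ))).homEquiv.trans
          (((shiftFunctorCompIsoId (DerivedCategory A) (-1 : ℤ) 1 (by omega)).app C).homCongr
            ((shiftFunctorAdd' (DerivedCategory A) q 1 (q + 1) rfl).app E).symm)).subsingleton_congr.2 (h (q + 1))
      have hsurj : ∀ x : Y ⟶ E⟦q⟧, ∃ z : Y ⟶ E⟦q⟧, x = (f • 𝟙 Y) ≫ z := fun x => by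
        obtain ⟨z, hz⟩ := Triangle.yoneda_exact₂ _ (inv_rot_of_distTriang _ hT') x
          (Subsingleton.elim (α := C⟦(-1 : ℤ)⟧ ⟶ E⟦q⟧) _ _)
        exact ⟨z, hz⟩
      choose g hg using hsurj
      refine subsingleton_of_forall_eq 0 fun x => ?_
      have hf : f ∈ l := hmem f List.mem_cons_self
      have hS := Triangle.shift_distinguished _ hT q
      refine congrFun (eq_zero_of_divisible (a₃ := Preadditive.leftComp (E⟦q⟧) (f • 𝟙 Y)) (comp_kX f X L (hL f hf) l' q) (hcomp f hf T (c.obj L).property Y q)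
        (comp_kX f X L (hL f hf) l' (q + 1))
        (Preadditive.rightComp Y ((Triangle.shiftFunctor _ q).obj (Triangle.mk (adj.unit.app L) i d)).mor₁)
        (Preadditive.rightComp Y ((Triangle.shiftFunctor _ q).obj (Triangle.mk (adj.unit.app L) i d)).mor₂)
        (Preadditive.rightComp Y (((Triangle.shiftFunctor _ q).obj (Triangle.mk (adj.unit.app L) i d)).mor₃ ≫
          ((shiftFunctorAdd' (DerivedCategory A) q 1 (q + 1) rfl).inv.app L)))
        (fun _ => Category.assoc _ _ _) (fun _ => Category.assoc _ _ _) (fun _ => Category.assoc _ _ _)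
        (fun y hy => ?_) (fun z => ?_) (fun x hx => ?_) (fun k => g^[k] x) fun k => ?_) 0
      · obtain ⟨z, hz⟩ := Triangle.coyoneda_exact₂ _ hS y hy
        exact ⟨z, hz.symm⟩
      · exact (Category.assoc _ _ _).trans ((congrArg (z ≫ ·) (comp_distTriang_mor_zero₁₂ _ hS)).trans comp_zero)
      · obtain ⟨y, hy⟩ := Triangle.coyoneda_exact₃ _ hS x (by
          rw [← cancel_mono ((shiftFunctorAdd' (DerivedCategory A) q 1 (q + 1) rfl).inv.app L), zero_comp,
            Category.assoc]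
          exact hx)
        exact ⟨y, hy.symm⟩
      · show g^[k] x = (f • 𝟙 Y) ≫ g^[k + 1] x
        rw [Function.iterate_succ_apply']
        exact hg _
  refine ⟨(injective_iff_map_eq_zero (Preadditive.rightComp _ (adj.unit.app L))).2 fun ψ hψ => ?_, fun φ => ?_⟩
  · obtain ⟨z, hz⟩ := Triangle.coyoneda_exact₂ _ (inv_rot_of_distTriang _ hT) ψ hψ
    haveI : Subsingleton (DerivedCategory.Q.obj X ⟶ (Triangle.mk (adj.unit.app L) i d).invRotate.obj₁) := hall (-1)
    rw [hz, Subsingleton.elim (α := DerivedCategory.Q.obj X ⟶ (Triangle.mk (adj.unit.app L) i d).invRotate.obj₁) z 0]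
    exact zero_comp
  · haveI : Subsingleton (DerivedCategory.Q.obj X ⟶ E) :=
      ((shiftFunctorZero (DerivedCategory A) ℤ).app E).homToEquiv.subsingleton_congr.1 (hall 0)
    obtain ⟨ψ, hψ⟩ := Triangle.coyoneda_exact₂ _ hT φ (Subsingleton.elim (α := DerivedCategory.Q.obj X ⟶ E) _ _)
    exact ⟨ψ, hψ.symm⟩

end Groth.Agent.H16Derived.DerCompFF
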