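import Groth.Agent.H16Derived.DerCompFF.Module
import Groth.Agent.H16Derived.DerCompFF.Abstract
import Groth.Agent.H16Derived.DerCohAdic.Module
import Groth.Agent.H16Derived.ExtFin.Main

/-!
# Full faithfulness of derived completion on a proper scheme over a complete ring
-/

set_option autoImplicit false
set_option linter.style.haveILetI false
set_option linter.unusedSectionVars false
set_option backward.isDefEq.respectTransparency false

universe u

open CategoryTheory CategoryTheory.Limits Opposite TopologicalSpace AlgebraicGeometry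

namespace Groth.Agent.H16Derived.DerCompFF

open DerCompLib H15Site DerCohVanish DerCohAdic

attribute [local instance] HasDerivedCategory.standard
attribute [local instance 10000] SiteInst.hasSheafifySite SiteInst.hasWeakSheafifySite
attribute [local instance] shiftAdditive

variable {A : Type u} [CommRing A] {X : Scheme.{u}} [X.Over (Spec (CommRingCat.of A))]

variable (A X) in
/-- The scalars of the base as global sections. -/
noncomputable def toGSec : A →+* DerComp.GSec X.sheaf :=
  (RingEquiv.ofBijective (evTop X) bijective_evTop).symm.toRingHom.comp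
    (Coh.toGlobal (X ↘ Spec (CommRingCat.of A)))

theorem toGSec_apply (a : A) (U : X.Opens) :
    (toGSec A X a).1 U =
      (X.presheaf.map (homOfLE (le_top : U ≤ ⊤)).op).hom (Coh.toGlobal (X ↘ Spec (CommRingCat.of A)) a) := by
  rw [← DerComp.GSec.compat (toGSec A X a) (homOfLE le_top : U ⟶ ⊤)]
  exact congrArg (X.presheaf.map (homOfLE (le_top : U ≤ ⊤)).op).hom
    ((RingEquiv.ofBijective (evTop X) bijective_evTop).apply_symm_apply _)

theorem smulEnd_toGSec (a : A) (M : X.Modules) :
    DerComp.smulEnd (O := X.sheaf) (toGSec A X a) M = Formal.smulMod A M a := by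
  refine Scheme.Modules.hom_ext _ _ fun U => ?_
  ext m
  exact congrArg (fun r : Γ(X, U) => r • m) (toGSec_apply a U)

theorem smul_id_cx (a : A) (C : CochainComplex X.Modules ℤ) :
    (DerivedCategory.Q.map (toGSec A X a • 𝟙 (show CochainComplex (ModSite.Mod X.sheaf) ℤ from C)) :
      DerivedCategory.Q.obj C ⟶ DerivedCategory.Q.obj C) = DerivedCategory.Q.map (a • 𝟙 C) := by
  refine congrArg DerivedCategory.Q.map (HomologicalComplex.hom_ext _ _ fun i => ?_)
  show DerComp.smulEnd (O := X.sheaf) (toGSec A X a) (C.X i) ≫ 𝟙 _ = Formal.smulMod A (C.X i) a ≫ 𝟙 _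
  rw [smulEnd_toGSec]

theorem smul_id_D (a : A) (F : DerivedCategory (ModSite.Mod X.sheaf)) :
    (toGSec A X a • 𝟙 F : F ⟶ F) = (a • 𝟙 (show DCoh.D X from F) : (show DCoh.D X from F) ⟶ F) := by
  let C := DerivedCategory.Q.objPreimage F
  let e : DerivedCategory.Q.obj C ≅ F := DerivedCategory.Q.objObjPreimageIso F
  let F' : DCoh.D X := F
  let C' : CochainComplex X.Modules ℤ := C
  let e' : DerivedCategory.Q.obj C' ⟶ F' := e.hom
  have h := smul_id_cx a C'
  have h1 : e.hom ≫ (toGSec A X a • 𝟙 F) = DerivedCategory.Q.map (toGSec A X a • 𝟙 C) ≫ e.hom := by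
    rw [Functor.map_smul, CategoryTheory.Functor.map_id, Linear.comp_smul, Category.comp_id, Linear.smul_comp,
      Category.id_comp]
  have h2 : e' ≫ (a • 𝟙 F') = DerivedCategory.Q.map (a • 𝟙 C') ≫ e' := by
    rw [Functor.map_smul, CategoryTheory.Functor.map_id, Linear.comp_smul, Category.comp_id, Linear.smul_comp,
      Category.id_comp]
  exact (cancel_epi e.hom).1 (h1.trans ((congrArg (· ≫ e.hom) h).trans h2.symm))

variable [IsNoetherianRing A] [IsProper (X ↘ Spec (CommRingCat.of A))] (I : Ideal A) [IsAdicComplete I A]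

/-- Maps between bounded coherent objects are complete. -/
theorem comp_hom_coh (F G : DCoh.D X) (b a : ℤ) [F.IsLE b] [G.IsGE a] (hF : DCoh.IsCohD F) (hG : DCoh.IsCohD G)
    {s : A} (hs : s ∈ I) (q : ℤ) :
    Comp (Preadditive.leftComp ((show DerivedCategory (ModSite.Mod X.sheaf) from G)⟦q⟧)
      (toGSec A X s • 𝟙 (show DerivedCategory (ModSite.Mod X.sheaf) from F))) := by
  haveI := ExtFin.finite_hom A F G b a hF hG q
  refine (comp_iff_of_equiv (AddEquiv.refl (F ⟶ G⟦q⟧)) fun y => ?_).1 (comp_of_finite (M := F ⟶ G⟦q⟧) I hs)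
  show s • y = (toGSec A X s • 𝟙 (show DerivedCategory (ModSite.Mod X.sheaf) from F)) ≫ y
  refine Eq.trans ?_ (congrArg (· ≫ y) (smul_id_D s F)).symm
  exact ((Linear.smul_comp _ _ _ s (𝟙 F) y).trans (congrArg (s • ·) (Category.id_comp y))).symm

/-- Bijectivity of completion on maps. -/
theorem main (𝓙 : DerComp.IdealSh X.sheaf) (h : 𝓙.IsGenBy (fun a : I.map (toGSec A X) => (a : DerComp.GSec X.sheaf)))
    [DerComp.HasDerCompletion X.sheaf 𝓙] (F G : DerivedCategory (ModSite.Mod X.sheaf))
    (hF : DCoh.IsCohD (X := X) F) (hG : DCoh.IsCohD (X := X) G) (a b : ℤ) [F.IsLE a] [G.IsGE b] :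
    Function.Bijective fun ψ : F ⟶ G => (DerComp.derCompletion X.sheaf 𝓙).map ψ := by
  haveI := isClosedUnderIsomorphisms X.sheaf 𝓙
  haveI := isTriangulated X.sheaf 𝓙
  haveI := H10Coh.isGrothendieckAbelian_sheafOfModules (ModSite.ringSh X.sheaf)
  haveI := KInjRes.hasProducts_derivedCategory (A := ModSite.Mod X.sheaf)
  have hℕ : HasLimitsOfShape (Discrete ℕ) (DerivedCategory (ModSite.Mod X.sheaf)) :=
    hasLimitsOfShape_of_equivalence (Discrete.equivalence (Equiv.ulift.{u, 0} : ULift.{u} ℕ ≃ ℕ))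
  haveI : HasProduct fun _ : ℕ => G := hℕ.has_limit _
  obtain ⟨S, hS⟩ := (isNoetherianRing_iff_ideal_fg A).1 ‹_› I
  have hspan : Ideal.span {x | x ∈ S.toList.map (toGSec A X)} = I.map (toGSec A X) := by
    rw [← hS, Ideal.map_span]
    congr 1
    ext x
    simp
  let C := DerivedCategory.Q.objPreimage F
  let e : DerivedCategory.Q.obj C ≅ F := DerivedCategory.Q.objObjPreimageIso F
  haveI : DerivedCategory.IsLE (DerivedCategory.Q.obj C) a :=
    DerivedCategory.TStructure.t.isLE_of_iso e.symm a
  let adj := DerComp.derCompletionAdj X.sheaf 𝓙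
  have hb := bijective_comp_unit (fun M hM k => (DerComp.IsDerComp X.sheaf 𝓙).le_shift k M hM) adj
    (S.toList.map (toGSec A X))
    (fun f hf M hM Y q => comp_hom h f (hspan ▸ Ideal.subset_span hf) M hM Y q)
    (fun B hB => isDerComp_of_nilD h {x | x ∈ S.toList.map (toGSec A X)} hspan B hB) C G
    (fun f hf q => by
      obtain ⟨s, hs, rfl⟩ := List.mem_map.1 hf
      exact comp_hom_coh I (DerivedCategory.Q.obj C) G a b (Dual.isCohD_iso e.symm hF) hG
        (hS ▸ Ideal.subset_span (Finset.mem_toList.1 hs)) q)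
  have heq : (fun ψ : F ⟶ G => (DerComp.derCompletion X.sheaf 𝓙).map ψ) =
      (adj.homEquiv F ((DerComp.derCompletion X.sheaf 𝓙).obj G)).symm ∘
        ((e.homFromEquiv (Z := ((DerComp.derCompletion X.sheaf 𝓙).obj G).obj)) ∘
          (fun ψ => ψ ≫ adj.unit.app G) ∘ (e.homFromEquiv (Z := G)).symm) := by
    funext ψ
    apply (adj.homEquiv F ((DerComp.derCompletion X.sheaf 𝓙).obj G)).injective
    rw [Function.comp_apply, Equiv.apply_symm_apply, Adjunction.homEquiv_unit]
    show adj.unit.app F ≫ _ = e.inv ≫ (e.hom ≫ ψ) ≫ adj.unit.app G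
    rw [Category.assoc, e.inv_hom_id_assoc]
    exact (adj.unit.naturality ψ).symm
  rw [heq]
  exact (Equiv.bijective _).comp ((Equiv.bijective _).comp (hb.comp (Equiv.bijective _)))

end Groth.Agent.H16Derived.DerCompFF
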