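import Groth.Agent.H16Derived.DerComp.CompGroup
import Mathlib.RingTheory.AdicCompletion.Basic
import Mathlib.RingTheory.AdicCompletion.Noetherian

/-!
# Finite modules over complete rings are derived complete
-/

set_option autoImplicit false
set_option linter.style.haveILetI false

universe u v

namespace Groth.Agent.H16Derived.DerCompFF

open Groth.Agent.H16Derived.DerCompLib

variable {A : Type u} [CommRing A] (I : Ideal A) [IsAdicComplete I A] {s : A}

/-- `x i - s x (i+1) = y i` is solvable in a complete ring. -/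
theorem exists_sub_eq (hs : s ∈ I) (y : ℕ → A) : ∃ x : ℕ → A, ∀ i, x i - s * x (i + 1) = y i := by
  have key : ∀ i : ℕ, ∃ L : A, ∀ n, ∑ k ∈ Finset.range n, s ^ k * y (i + k) ≡ L [SMOD (I ^ n • ⊤ : Submodule A A)] := by
    intro i
    refine IsPrecomplete.prec' (I := I) (f := fun n => ∑ k ∈ Finset.range n, s ^ k * y (i + k)) fun {m n} hmn => ?_
    rw [SModEq.sub_mem, ← neg_sub, neg_mem_iff, ← Finset.sum_Ico_eq_sub _ hmn]
    refine Submodule.sum_mem _ fun k hk => ?_
    rw [← smul_eq_mul]
    exact Submodule.smul_mem_smul (Ideal.pow_le_pow_right (Finset.mem_Ico.1 hk).1 (Ideal.pow_mem_pow hs k))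
      Submodule.mem_top
  choose L hL using key
  refine ⟨L, fun i => IsHausdorff.eq_iff_smodEq (I := I).2 fun n => ?_⟩
  have h1 : L i ≡ ∑ k ∈ Finset.range (n + 1), s ^ k * y (i + k) [SMOD (I ^ n • ⊤ : Submodule A A)] :=
    ((hL i (n + 1)).symm).mono (Submodule.smul_mono_left (Ideal.pow_le_pow_right n.le_succ))
  have h2 : s * L (i + 1) ≡ ∑ k ∈ Finset.range n, s ^ (k + 1) * y (i + (k + 1)) [SMOD (I ^ n • ⊤ : Submodule A A)] := by
    have e : ∑ k ∈ Finset.range n, s ^ (k + 1) * y (i + (k + 1)) =
        s • ∑ k ∈ Finset.range n, s ^ k * y (i + 1 + k) := by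
      rw [smul_eq_mul, Finset.mul_sum]
      refine Finset.sum_congr rfl fun k _ => ?_
      rw [show i + (k + 1) = i + 1 + k by omega]
      ring
    rw [e, ← smul_eq_mul]
    exact ((hL (i + 1) n).symm).smul s
  have h3 := h1.sub h2
  rw [Finset.sum_range_succ', add_sub_cancel_left, pow_zero, one_mul, add_zero] at h3
  exact h3

variable [IsNoetherianRing A] {M : Type v} [AddCommGroup M] [Module A M] [Module.Finite A M]

theorem comp_of_finite (hs : s ∈ I) : Comp (DistribSMul.toAddMonoidHom M s) := by
  haveI : IsHausdorff I M := IsHausdorff.of_le_jacobson I M (IsAdicComplete.le_jacobson_bot I)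
  constructor
  · rw [injective_iff_map_eq_zero]
    intro x hx
    have hx' : ∀ i, x i = s • x (i + 1) := fun i => sub_eq_zero.1 (congrFun hx i)
    have hn : ∀ n i, x i ∈ (I ^ n • ⊤ : Submodule A M) := by
      intro n
      induction n with
      | zero => intro i; simp
      | succ n ih =>
        intro i
        rw [hx' i, pow_succ', mul_smul]
        exact Submodule.smul_mem_smul hs (ih (i + 1))
    exact funext fun i => IsHausdorff.haus ‹_› _ fun n => SModEq.zero.2 (hn n i)
  · intro y
    obtain ⟨N, g, hg⟩ := Module.Finite.exists_fin' A M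
    choose z hz using fun i => hg (y i)
    choose w hw using fun j : Fin N => exists_sub_eq I hs fun i => z i j
    refine ⟨fun i => g fun j => w j i, funext fun i => ?_⟩
    show g (fun j => w j i) - s • g (fun j => w j (i + 1)) = y i
    rw [← map_smul, ← map_sub, ← hz i]
    exact congrArg g (funext fun j => hw j i)

end Groth.Agent.H16Derived.DerCompFF
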